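import Cfsg.Agent.H9.Misc3
import Cfsg.Agent.H3.Down

/-! # The Alperin–Dade isomorphism of principal blocks, on characters -/

namespace H9
open Cfsg H3 MonoidAlgebra Subgroup
open scoped ComplexConjugate Pointwise
set_option linter.style.haveILetI false
set_option linter.unusedSectionVars false

variable {p : ℕ} {M : Ideal AlgInt} {G : Type*} [Group G] [Finite G] [PMod p M] [Fact p.Prime]
variable {N J K E : Subgroup G} {α β θ : G → ℂ} {g x : G}

/-- every coset of `N` has an element whose `N`-class has `p'` size. -/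
def AD (p : ℕ) (N : Subgroup G) : Prop := ∀ g, ∃ x, g * x⁻¹ ∈ N ∧ ¬ p ∣ (cen1 x).relIndex N

def Rr {p : ℕ} (M : Ideal AlgInt) [PMod p M] (N J : Subgroup G) (α : G → ℂ) : Prop :=
  ∀ x ∈ J, ¬ p ∣ (cen1 x).relIndex N → α x / α 1 - 1 ∈ LI M

def InB0 (M : Ideal AlgInt) (J : Subgroup G) (α : G → ℂ) : Prop := ∃ χ ∈ (B0 M J).1, χ.1 = α↾J

theorem InB0.irr (h : InB0 M J α) : Irr J α↾J := by obtain ⟨χ, -, e⟩ := h; exact e ▸ χ.2

theorem Rr.mono (h : Rr M N J α) (l : K ≤ J) : Rr M N K α := fun x hx => h x (l hx)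

theorem ad_of_sup {P : Subgroup G} [N.Normal] (hP : ¬ p ∣ P.relIndex N) (h : N ⊔ cen P = ⊤) : AD p N := fun g => by
  obtain ⟨n, hn, x, hx, rfl⟩ := (mem_sup_of_normal_left ..).1 (h.ge (mem_top g))
  exact ⟨x, by simpa using hn, fun e => hP (e.trans (relIndex_dvd_of_le_left _ fun g hg =>
    mem_centralizer_singleton_iff.2 (hx g hg)))⟩

theorem InB0.rr (h : InB0 M J α) (l : N ≤ J) (hi : ¬ p ∣ N.relIndex J) : Rr M N J α := fun x hx hc => by
  obtain ⟨χ, hχ, e⟩ := h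
  have := B0_div_sub_one_mem (g := ⟨x, hx⟩) hχ fun h => by
    rw [show cen1 (⟨x, hx⟩ : J) = (cen1 x).subgroupOf J from Subgroup.ext fun y => by
      simp [mem_subgroupOf, mem_centralizer_singleton_iff, Subtype.ext_iff]] at h
    have h2 := h.trans (relIndex_dvd_of_le_left J (inf_le_left : cen1 x ⊓ N ≤ cen1 x))
    rw [← relIndex_mul_relIndex _ N J inf_le_right l, inf_relIndex_right] at h2
    exact ((Fact.out : p.Prime).dvd_mul.1 h2).elim hc hi
  rwa [e] at this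

theorem inB0_sub [M.IsMaximal] (l : N ≤ K) : InB0 M (N.subgroupOf K) α↾K ↔ InB0 M N α := by
  have e := Bl.map_B0 (M := M) (subgroupOfEquivOfLe l)
  refine ⟨fun ⟨χ, h, a⟩ => ⟨irrComp χ (subgroupOfEquivOfLe l).symm, ?_, ?_⟩,
    fun ⟨χ, h, a⟩ => ⟨irrComp χ (subgroupOfEquivOfLe l), Bl.mem_map.1 (e ▸ h), ?_⟩⟩
  · rwa [← e, Bl.mem_map, irrComp_symm']
  · funext n; rw [irrComp_apply, a]; rfl
  · funext n; rw [irrComp_apply, a]; rfl

theorem inB0_top [M.IsMaximal] {χ : IrrCharacter G} : InB0 M ⊤ χ.1 ↔ χ ∈ (B0 M G).1 := by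
  rw [← Bl.map_B0 (M := M) (topEquiv : (⊤ : Subgroup G) ≃* G), Bl.mem_map]
  exact ⟨fun ⟨ψ, h, a⟩ => (Subtype.ext a : ψ = irrComp χ topEquiv) ▸ h, fun h => ⟨_, h, rfl⟩⟩

theorem sum_sub {A : Type*} [AddCommMonoid A] (l : N ≤ K) (f : G → A) :
    ∑ n : N.subgroupOf K, f (n : K) = ∑ n : N, f n :=
  Fintype.sum_equiv (subgroupOfEquivOfLe l).toEquiv _ _ fun _ => rfl

variable [hN : N.Normal]

theorem comm_sup_le_sup (N E : Subgroup G) [N.Normal] : ⁅N ⊔ E, N ⊔ E⁆ ≤ N ⊔ ⁅E, E⁆ := by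
  have h : (N ⊔ E).map (QuotientGroup.mk' N) = E.map (QuotientGroup.mk' N) := by
    rw [Subgroup.map_sup, (Subgroup.map_eq_bot_iff _).2 (QuotientGroup.ker_mk' N).ge, bot_sup_eq]
  have := comap_map_eq (QuotientGroup.mk' N) ⁅E, E⁆
  rw [QuotientGroup.ker_mk'] at this
  rw [sup_comm _ ⁅E, E⁆, ← this, ← map_le_iff_le_comap, map_commutator, map_commutator, h]

theorem normSq_cosetA (l : N ≤ J) (a : Ch J α↾J) (b : Irr N α↾N) (hg : g ∈ J) :
    ∑ n : N, ‖α (n * g)‖ ^ 2 = Nat.card N := by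
  have := sum_normSq_coset a ((irr_sub l).2 b) ⟨g, hg⟩
  rw [Nat.card_congr (subgroupOfEquivOfLe l).toEquiv] at this
  rw [← this, ← sum_sub l fun n => ‖α (n * g)‖ ^ 2]; rfl

variable (h : AD p N)
include h

theorem AD.exists (l : N ≤ J) (y : J) : ∃ x : J, y * x⁻¹ ∈ N.subgroupOf J ∧ ¬ p ∣ (cen1 (x : G)).relIndex N := by
  obtain ⟨x, a, b⟩ := h y
  exact ⟨⟨x, by simpa using mul_mem (inv_mem (l a)) y.2⟩, a, b⟩

theorem AD.eq_one (l : N ≤ K) (lk : K ≤ J) (r : Rr M N J α) {ω : J →* ℂˣ} (hω : ω ∈ triv (K.subgroupOf J))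
    (e : lf ω * α↾J = α↾J) : ω = 1 := by
  ext y
  obtain ⟨x, a, b⟩ := h.exists (l.trans lk) y
  have := mem_triv.1 hω _ (l a)
  rw [map_mul, map_inv, mul_inv_eq_one] at this
  rw [this]
  by_contra h0
  have h1 := r x x.2 b
  rw [show α x = 0 from eq_zero_of_lstab (mem_lstab.2 e) fun h => h0 (by rw [h]; rfl)] at h1
  exact one_not_mem_LI (by simpa using neg_mem h1)

theorem AD.uniq (l : N ≤ J) (hi : ¬ p ∣ N.relIndex J) (a : Irr N α↾N) (b : Ch J α↾J) (c : Irr J β↾J)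
    (d : ⟪β↾N, α↾N⟫ ≠ 0) (r : Rr M N J α) (s : Rr M N J β) : α↾J = β↾J := by
  obtain ⟨γ, hγ, k, e⟩ := gallagher b ((irr_sub l).2 a) c (by rwa [inner_sub l])
  obtain ⟨ψ, hψ⟩ := exists_infl_eq (QuotientGroup.mk'_surjective (N.subgroupOf J)) (χ := ⟨γ, hγ⟩)
    (by rwa [QuotientGroup.ker_mk'])
  obtain rfl : (fun g : J => ψ.1 (g : J ⧸ N.subgroupOf J)) = γ := congrArg Subtype.val hψ
  haveI := Fintype.ofFinite (J ⧸ N.subgroupOf J)
  have h1 := inner_div_sub_mem (M := M) (H := J ⧸ N.subgroupOf J) hi (F := ψ.1) (ψ.1 1) (fun y => by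
    obtain ⟨y, rfl⟩ := QuotientGroup.mk_surjective y
    obtain ⟨x, a, b⟩ := h.exists l y
    rw [show (y : J ⧸ N.subgroupOf J) = x from (QuotientGroup.eq_iff_div_mem.2 (by rwa [div_eq_mul_inv]))]
    have h2 := r x x.2 b
    have h3 := s x x.2 b
    rw [← show _ = β x from congrFun e x, ← show _ = β 1 from congrFun e 1] at h3
    have h4 : α x / α 1 ∉ LI M := fun h => one_not_mem_LI (by simpa using sub_mem h h2)
    have h5 := div_mem_LI (sub_mem h3 h2) (by simpa using add_mem (mem_LR_of_mem_LI h2) (one_mem _)) h4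
    convert h5 using 1
    have := ne_zero_of_not_mem_LI h4
    simp only [Pi.mul_apply, QuotientGroup.mk_one, OneMemClass.coe_one]
    rw [mul_div_mul_comm]
    generalize α x / α 1 = c at this
    field_simp; ring) isCharacter_one
  rw [isIrrCharacter_one.inner_self] at h1
  have h2 : ψ.1 = fun _ => 1 := ψ.2.eq_of_inner_ne_zero isIrrCharacter_one fun h0 =>
    one_not_mem_LI (by simpa [h0] using neg_mem h1)
  rw [← e, h2]; exact (one_mul _).symm

theorem AD.irr_step (l : N ≤ K) (lk : K ≤ J) (c : ⁅J, J⁆ ≤ K) (a : Irr J α↾J) (r : Rr M N J α) : Irr K α↾K := by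
  haveI := Normal.of_commutator_le _ (commutator_le_sub c)
  refine (irr_sub lk).1 ((a.isCharacter.res _).isIrr_of_inner_self ?_)
  rw [inner_res_eq_card (commutator_le_sub c) a, show triv (K.subgroupOf J) ⊓ lstab α↾J = ⊥ from
    eq_bot_iff.2 fun ω hω => h.eq_one l lk r hω.1 hω.2, card_bot, Nat.cast_one]

theorem AD.irr_solv (hE : Group.IsSolvable E) (a : Irr ↥(N ⊔ E) α↾↥(N ⊔ E)) (r : Rr M N (N ⊔ E) α) :
    Irr N α↾N := by
  induction E using WellFoundedLT.induction with | ind E ih => ?_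
  by_cases h0 : E = ⊥
  · subst h0; rwa [sup_bot_eq] at a
  have h1 := H1.commutator_lt_of_isSolvable h0
  exact ih _ h1 (Group.isSolvable_of_isSolvable_injective (f := inclusion h1.le) (inclusion_injective _))
    (h.irr_step le_sup_left (sup_le_sup_left h1.le _) (comm_sup_le_sup N E) a r) (r.mono (sup_le_sup_left h1.le _))

theorem AD.exists_solv (hE : Group.IsSolvable E) (hi : ¬ p ∣ N.relIndex (N ⊔ E)) (a : InB0 M N θ) :
    ∃ α, InB0 M (N ⊔ E) α ∧ α↾N = θ↾N := by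
  obtain ⟨ξ, hξ, e⟩ := (inB0_sub (le_sup_left : N ≤ N ⊔ E)).2 a
  obtain ⟨χ, hχ, d⟩ := Bl.exists_over (B0_cov _) hξ
  obtain ⟨α, hα⟩ := exists_amb χ.1
  have h1 : InB0 M (N ⊔ E) α := ⟨χ, hχ, hα.symm⟩
  rw [e, ← hα, inner_sub le_sup_left] at d
  exact ⟨α, h1, (h.irr_solv hE h1.irr (h1.rr le_sup_left hi)).eq_of_inner_ne_zero a.irr d⟩

omit h in
open Classical in
/-- the canonical extension of `θ`. -/
noncomputable def can {p : ℕ} (M : Ideal AlgInt) [PMod p M] (N : Subgroup G) (θ : G → ℂ) (g : G) : ℂ :=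
  if h : ∃ α, Ch ↥(N ⊔ zpowers g) α↾↥(N ⊔ zpowers g) ∧ Rr M N (N ⊔ zpowers g) α ∧ α↾N = θ↾N then
    h.choose g else 0

omit h in
theorem not_dvd_relIndex_of_le (l : N ≤ K) (lk : K ≤ J) (hi : ¬ p ∣ N.relIndex J) : ¬ p ∣ N.relIndex K :=
  fun e => hi (e.trans (Dvd.intro _ (relIndex_mul_relIndex N K J l lk)))

theorem AD.can_eq (l : N ≤ J) (hi : ¬ p ∣ N.relIndex (N ⊔ zpowers g)) (a : Irr N θ↾N) (b : Ch J α↾J)
    (r : Rr M N J α) (e : α↾N = θ↾N) (hg : g ∈ J) : can M N θ g = α g := by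
  have lk : N ⊔ zpowers g ≤ J := sup_le l (zpowers_le.2 hg)
  have h1 : ∃ α, Ch ↥(N ⊔ zpowers g) α↾↥(N ⊔ zpowers g) ∧ Rr M N (N ⊔ zpowers g) α ∧ α↾N = θ↾N :=
    ⟨α, ch_mono b lk, r.mono lk, e⟩
  rw [can, dif_pos h1]
  obtain ⟨c, s, f⟩ := h1.choose_spec
  exact congrFun (h.uniq le_sup_left hi (by rwa [f]) c (irr_of_res (ch_mono b lk) le_sup_left (e ▸ a))
    (by rw [e, f, a.inner_self]; exact one_ne_zero) s (r.mono lk)) ⟨g, mem_sup_right (mem_zpowers g)⟩

theorem AD.can_solv (hE : Group.IsSolvable E) (hi : ¬ p ∣ N.relIndex (N ⊔ E)) (a : InB0 M N θ) :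
    InB0 M (N ⊔ E) (can M N θ) ∧ (can M N θ)↾N = θ↾N := by
  obtain ⟨α, b, e⟩ := h.exists_solv hE hi a
  have h1 : (can M N θ)↾↥(N ⊔ E) = α↾↥(N ⊔ E) := funext fun y => h.can_eq le_sup_left
    (not_dvd_relIndex_of_le le_sup_left (sup_le le_sup_left (zpowers_le.2 y.2)) hi) a.irr b.irr.isCharacter
    (b.rr le_sup_left hi) e y.2
  exact ⟨by rwa [InB0, h1], (res_eq_mono h1 le_sup_left).trans e⟩

omit h in
theorem solv_zpowers (g : G) : Group.IsSolvable (zpowers g) :=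
  Group.isSolvable_of_comm fun a b => Subtype.ext (commute_of_mem_zpowers a.2 b.2)

omit h in
theorem relIndex_conj (t : G) (J : Subgroup G) : N.relIndex (MulAut.conj t • J) = N.relIndex J := by
  rw [← relIndex_pointwise_smul (MulAut.conj t) N J, conj_smul_normal N]

theorem AD.can_conj (hi : ¬ p ∣ N.relIndex (N ⊔ zpowers g)) (a : InB0 M N θ) (t : G)
    (ht : ∀ n ∈ N, θ (t * n * t⁻¹) = θ n) : can M N θ (t * g * t⁻¹) = can M N θ g := by
  have e : N ⊔ zpowers (t * g * t⁻¹) = MulAut.conj t • (N ⊔ zpowers g) := by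
    rw [conj_smul_sup, conj_smul_normal]
    exact congrArg _ (MonoidHom.map_zpowers (MulAut.conj t).toMonoidHom g).symm
  have hi' := hi
  rw [← relIndex_conj t, ← e] at hi'
  obtain ⟨b, c⟩ := h.can_solv (solv_zpowers _) hi' a
  have m : ∀ x ∈ N ⊔ zpowers g, t * x * t⁻¹ ∈ N ⊔ zpowers (t * g * t⁻¹) := fun x hx =>
    e ▸ smul_mem_pointwise_smul x (MulAut.conj t) _ hx
  have c' : Ch ↥(N ⊔ zpowers g) (cf t (can M N θ))↾↥(N ⊔ zpowers g) := by
    have := b.irr.isCharacter.comp (((MulAut.conj t).toMonoidHom.comp (N ⊔ zpowers g).subtype).codRestrict _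
      fun x => m x x.2)
    generalize can M N θ = f at this
    exact this
  refine (h.can_eq (α := cf t (can M N θ)) le_sup_left hi a.irr c' (fun x hx hc => ?_) (funext fun n => ?_)
    (mem_sup_right (mem_zpowers g))).symm
  · rw [cf_at_one]
    refine b.rr le_sup_left hi' _ (m x hx) ?_
    rwa [← conj_smul_cen1, ← conj_smul_normal N t, relIndex_pointwise_smul]
  · exact (congrFun c ⟨_, hN.conj_mem _ n.2 t⟩).trans (ht n n.2)

theorem AD.coset_sum (l : N ≤ K) (c : ⁅K, K⁆ ≤ N) (hi : ¬ p ∣ N.relIndex K) (a : InB0 M K α) (hg : g ∈ K) :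
    ∑ n : N, pRegularPart p α (n * g) = (N.relIndex K : ℂ)⁻¹ * ∑ y : K, pRegularPart p α y := by
  classical
  have hc := commutator_le_sub c
  have h1 : ∀ ω : triv (N.subgroupOf K), ω ≠ 1 → ∑ y : K, (ω.1 y : ℂ) * pRegularPart p α y = 0 := fun ω h1 => by
    obtain ⟨β, hβ⟩ := exists_amb (lf ω.1 * α↾K)
    have h2 : (⟨_, a.irr.lf_mul ω.1⟩ : IrrCharacter K) ∉ (B0 M K).1 := fun h2 => by
      have b : InB0 M K β := ⟨_, h2, hβ.symm⟩
      have e : β↾N = α↾N := funext fun n => (congrFun hβ ⟨n, l n.2⟩).trans (by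
        simp [mem_triv.1 ω.2 ⟨n, l n.2⟩ n.2])
      have i := h.irr_step le_rfl l c a.irr (a.rr l hi)
      exact h1 (Subtype.ext (h.eq_one le_rfl l (a.rr l hi) ω.2 (hβ.symm.trans (h.uniq l hi i a.irr.isCharacter
        b.irr (by rw [e, i.inner_self]; exact one_ne_zero) (a.rr l hi) (b.rr l hi)).symm)))
    rw [mem_B0_iff, not_not, Finset.sum_filter] at h2
    rw [← h2]
    refine Finset.sum_congr rfl fun y _ => ?_
    split_ifs with hy
    · rw [pRegularPart_of_reg (isPRegular_coe.2 hy)]; rfl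
    · rw [pRegularPart_of_not_reg (mt isPRegular_coe.1 hy), mul_zero]
  have h2 : ∑ ω : triv (N.subgroupOf K), ∑ y : K, (ω.1 (y * (⟨g, hg⟩ : K)⁻¹) : ℂ) * pRegularPart p α y =
      ∑ y : K, pRegularPart p α y := by
    rw [Finset.sum_eq_single 1 (fun ω _ e => ?_) (by simp)]
    · simp
    · simp only [map_mul, Units.val_mul, mul_right_comm _ _ (pRegularPart p α _), ← Finset.sum_mul, h1 ω e, zero_mul]
  rw [← h2, Finset.sum_comm, eq_inv_mul_iff_mul_eq₀ (Nat.cast_ne_zero.2 (relIndex_ne_zero' _ _)),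
    ← Equiv.sum_comp (Equiv.mulRight (⟨g, hg⟩ : K)), ← sum_sub l fun n => pRegularPart p α (n * g), Finset.mul_sum,
    ← Finset.sum_subtype (Finset.univ.filter (· ∈ N.subgroupOf K)) (by simp)
      fun y : K => (N.relIndex K : ℂ) * pRegularPart p α (y * g), Finset.sum_filter]
  refine Finset.sum_congr rfl fun y _ => ?_
  simp only [Equiv.coe_mulRight, mul_inv_cancel_right, ← Finset.sum_mul]
  split_ifs with hy
  · rw [sum_triv_of_mem hc hy]; rfl
  · rw [sum_triv_eq_zero hc hy, zero_mul]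

theorem AD.inB0 (l : N ≤ J) (a : Irr J α↾J) (b : ∀ g ∈ J, IsPRegular p g → InB0 M (N ⊔ zpowers g) α) :
    InB0 M J α := by
  classical
  have h0 : ∑ n : N, pRegularPart p α n ≠ 0 := by
    obtain ⟨χ, hχ, e⟩ : InB0 M N α := by simpa using b 1 (one_mem _) isPRegular_one
    rw [mem_B0_iff, Finset.sum_filter, e] at hχ
    refine fun h => hχ ((Finset.sum_congr rfl fun y _ => ?_).trans h)
    split_ifs with hy
    · rw [pRegularPart_of_reg (isPRegular_coe.2 hy)]
    · rw [pRegularPart_of_not_reg (mt isPRegular_coe.1 hy)]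
  have h1 : ∀ y : J, ∑ n : N, pRegularPart p α (n * y) =
      if ∃ n : N, IsPRegular p (n * y : G) then ∑ n : N, pRegularPart p α n else 0 := fun y => by
    split_ifs with hy
    · obtain ⟨m, hm⟩ := hy
      have c : ⁅N ⊔ zpowers (m * y : G), N ⊔ zpowers (m * y : G)⁆ ≤ N := (comm_sup_le_sup _ _).trans (sup_le le_rfl
        (commutator_le.2 fun a ha b hb => by rw [(commute_of_mem_zpowers ha hb).commutator_eq]; exact one_mem _))
      have i : ¬ p ∣ N.relIndex (N ⊔ zpowers (m * y : G)) := fun e => hm (by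
        rw [relIndex_sup_left] at e
        exact Nat.card_zpowers (m * y : G) ▸ e.trans (relIndex_dvd_card _ _))
      have := b _ (mul_mem (l m.2) y.2) hm
      have e := (h.coset_sum le_sup_left c i this (mem_sup_right (mem_zpowers _))).trans
        (h.coset_sum le_sup_left c i this (one_mem _)).symm
      rw [← Equiv.sum_comp (Equiv.mulRight m)]
      simpa [mul_assoc] using e
    · exact Finset.sum_eq_zero fun n _ => pRegularPart_of_not_reg fun h => hy ⟨n, h⟩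
  refine ⟨⟨_, a⟩, mem_B0_iff.2 fun h2 => ?_, rfl⟩
  have h3 : ∑ y : J, ∑ n : N, pRegularPart p α (n * y) = 0 := by
    rw [Finset.sum_comm]
    refine Finset.sum_eq_zero fun n _ => ?_
    rw [← h2, Finset.sum_filter]
    refine Fintype.sum_equiv (Equiv.mulLeft (⟨n, l n.2⟩ : J)) _ _ fun y => ?_
    split_ifs with hy
    · exact pRegularPart_of_reg (isPRegular_coe.2 hy)
    · exact pRegularPart_of_not_reg fun h => hy (isPRegular_coe.1 h)
  simp only [h1, ← Finset.sum_filter, Finset.sum_const, nsmul_eq_mul, mul_eq_zero, h0, or_false,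
    Nat.cast_eq_zero, Finset.card_eq_zero] at h3
  exact Finset.ne_empty_of_mem (a := 1) (by simpa using ⟨1, one_mem _, isPRegular_one⟩) h3

theorem AD.exists_ext (hi : ¬ p ∣ N.index) (a : InB0 M N θ) : ∃ χ ∈ (B0 M G).1, (χ.1)↾N = θ↾N := by
  haveI := Fintype.ofFinite G
  have i : ∀ J, ¬ p ∣ N.relIndex J := fun J e => hi (e.trans (relIndex_dvd_index_of_normal _ _))
  have c := fun E hE => h.can_solv (E := E) hE (i _) a
  have e := (c _ (solv_zpowers 1)).2
  have h1 : Irr G (can M N θ) := by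
    refine (isGen_of_nilpotent (fun g t => h.can_conj (i _) a t fun n hn => ?_) fun E hE =>
      (ch_mono (c E inferInstance).1.irr.isCharacter le_sup_right).isGen).isIrr_of_re_nonneg ?_ ?_
    · rw [← show _ = θ n from congrFun e ⟨n, hn⟩, ← show _ = θ _ from congrFun e ⟨_, hN.conj_mem n hn t⟩]
      exact cf_apply (c _ (solv_zpowers t)).1.irr.isClassFunction (mem_sup_right (mem_zpowers t)) (mem_sup_left hn)
    · rw [classInner, ← sum_avg (N := N), Finset.sum_congr rfl (g := fun _ => 1) fun g _ => ?_]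
      · simp
      have := normSq_cosetA le_sup_left (c _ (solv_zpowers g)).1.irr.isCharacter (e ▸ a.irr)
        (mem_sup_right (mem_zpowers g))
      simp only [avg, Complex.mul_conj, Complex.normSq_eq_norm_sq]
      rw [inv_mul_eq_one₀ (card_ne_zero N)]
      exact_mod_cast this.symm
    · rw [show can M N θ 1 = θ 1 from congrFun e 1, show θ 1 = _ from a.irr.deg]; simp
  exact ⟨⟨_, h1⟩, inB0_top.1 (h.inB0 le_top (irr_top.2 h1) fun g _ _ => (c _ (solv_zpowers g)).1), e⟩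

theorem AD.eq_of_over (hi : ¬ p ∣ N.index) {χ ψ : IrrCharacter G} (a : χ ∈ (B0 M G).1) (b : ψ ∈ (B0 M G).1)
    (c : Irr N (χ.1)↾N) (d : ⟪(ψ.1)↾N, (χ.1)↾N⟫ ≠ 0) : χ = ψ := by
  rw [← relIndex_top_right] at hi
  exact Subtype.ext (funext fun g => congrFun (h.uniq le_top hi c (irr_top.2 χ.2).isCharacter (irr_top.2 ψ.2) d
    ((inB0_top.2 a).rr le_top hi) ((inB0_top.2 b).rr le_top hi)) ⟨g, mem_top g⟩)

theorem AD.exists_ext_of_ext (a : InB0 M N θ) {ψ : G → ℂ} (hψ : Irr G ψ) (e : ψ↾N = θ↾N) :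
    ∃ χ, Irr G χ ∧ χ↾N = θ↾N ∧ ∀ J, N ≤ J → InB0 M J χ := by
  haveI := Fintype.ofFinite G
  have ht : ∀ t, ∀ n ∈ N, θ (t * n * t⁻¹) = θ n := fun t n hn => by
    rw [← show _ = θ n from congrFun e ⟨n, hn⟩, ← show _ = θ _ from congrFun e ⟨_, hN.conj_mem n hn t⟩]
    exact hψ.isClassFunction _ _
  have i : ∀ E : Subgroup G, ¬ p ∣ Nat.card E → ¬ p ∣ N.relIndex (N ⊔ E) := fun E hE e => hE (by
    rw [relIndex_sup_left] at e; exact e.trans (relIndex_dvd_card _ _))
  let l : G → ℂ := avg N (ψ * fun g => conj (can M N θ g))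
  have h1 : ∀ E : Subgroup G, Group.IsSolvable E → ¬ p ∣ Nat.card E → ∃ ω ∈ triv (N.subgroupOf (N ⊔ E)),
      ∀ y : ↥(N ⊔ E), l y = ω y ∧ ψ y = ω y * can M N θ y := fun E hE hp => by
    obtain ⟨b, c⟩ := h.can_solv hE (i E hp) a
    obtain ⟨ω, hω, f⟩ := exists_lf_of_ext (N := N.subgroupOf (N ⊔ E)) b.irr.isCharacter
      ((irr_sub le_sup_left).2 (c ▸ a.irr)) (hψ.isCharacter.res _) ((eq_sub le_sup_left).2 (e.trans c.symm))
    refine ⟨ω, hω, fun y => ⟨?_, (congrFun f y).symm⟩⟩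
    have h2 := normSq_cosetA le_sup_left b.irr.isCharacter (c ▸ a.irr) y.2
    simp only [l, avg]
    rw [inv_mul_eq_iff_eq_mul₀ (card_ne_zero N), ← Complex.ofReal_natCast, ← h2]
    push_cast
    rw [Finset.sum_mul]
    refine Finset.sum_congr rfl fun n _ => ?_
    have := congrFun f (⟨n, mem_sup_left n.2⟩ * y)
    simp only [Pi.mul_apply, lf_apply, map_mul, mem_triv.1 hω ⟨n, mem_sup_left n.2⟩ n.2, one_mul, coe_mul] at this
    rw [Pi.mul_apply, ← this, mul_assoc, Complex.mul_conj, Complex.normSq_eq_norm_sq, mul_comm]; simp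
  have h2 : ∀ g : G, IsPRegular p g → ¬ p ∣ Nat.card (zpowers g) := fun g hg => by rwa [Nat.card_zpowers]
  have h3 : Gen G fun g => l (pq p g) := by
    refine isGen_of_nilpotent (fun g t => ?_) fun E hE => ?_
    · simp only [pq_conj, l, avg, Pi.mul_apply]
      rw [← Equiv.sum_comp (MulAut.conjNormal t).toEquiv]
      refine congrArg _ (Finset.sum_congr rfl fun n _ => ?_)
      rw [show ((MulAut.conjNormal t).toEquiv n : G) * (t * pq p g * t⁻¹) = t * (n * pq p g) * t⁻¹ by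
        simp [mul_assoc], hψ.isClassFunction, h.can_conj (not_dvd_relIndex_of_le le_sup_left (sup_le le_sup_left
        (zpowers_le.2 (mul_mem (mem_sup_left n.2) (mem_sup_right (mem_zpowers _))))) (i _ (h2 _ (isPRegular_pq g))))
        a t (ht t)]
    · obtain ⟨-, f, -, hf⟩ := exists_pp_hom p E
      obtain ⟨ω, -, hω⟩ := h1 (E.subtype.comp f).range (Group.isSolvable_of_surjective
        (E.subtype.comp f).rangeRestrict_surjective) (not_dvd_card_of_forall (by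
          rintro _ ⟨x, rfl⟩
          show IsPRegular p ((f x : E) : G)
          rw [hf, ← pq_coe]; exact isPRegular_pq _))
      have := ((lf_ch ω).comp ((inclusion le_sup_right).comp (E.subtype.comp f).rangeRestrict)).isGen
      convert this using 2 with x
      rw [pq_coe, ← hf]
      exact (hω (inclusion le_sup_right ((E.subtype.comp f).rangeRestrict x))).1
  have h4 : ∀ g, l (pq p g) * conj (l (pq p g)) = 1 := fun g => by
    obtain ⟨ω, -, hω⟩ := h1 _ (solv_zpowers _) (h2 _ (isPRegular_pq g))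
    rw [show l _ = _ from (hω ⟨_, mem_sup_right (mem_zpowers _)⟩).1, Complex.mul_conj, Complex.normSq_eq_norm_sq,
      norm_lin]; simp
  have h5 : l (pq p 1) = 1 := by
    obtain ⟨ω, -, hω⟩ := h1 _ (solv_zpowers _) (h2 _ isPRegular_one)
    rw [pq_one, show l 1 = _ from (hω 1).1]; simp
  obtain ⟨μ, hμ⟩ := (h3.isIrr_of_re_nonneg (by simp [classInner, h4]) (by rw [h5]; simp)).isCharacter.exists_lf h5
  have h6 : ∀ g, IsPRegular p g → (lf μ⁻¹ * ψ)↾↥(N ⊔ zpowers g) = (can M N θ)↾↥(N ⊔ zpowers g) := fun g hg => by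
    obtain ⟨ω, k, hω⟩ := h1 _ (solv_zpowers _) (h2 _ hg)
    funext y
    have h7 : (ω y : ℂ) = μ y := by
      rw [← lf_apply μ, ← congrFun hμ y, pq_coe, (hω _).1]
      nth_rw 1 [← pp_mul_pq (p := p) y]
      rw [map_mul, mem_triv.1 k _ ((QuotientGroup.eq_one_iff _).1 (eq_one_of_isPElt_of_isPRegular
        ((isPElt_pp y).map (QuotientGroup.mk' _)) fun e => i _ (h2 _ hg) (e.trans (orderOf_dvd_natCard _)))), one_mul]
    simp [(hω y).2, h7]
  have h7 : (lf μ⁻¹ * ψ)↾N = θ↾N := (res_eq_mono (h6 1 isPRegular_one) le_sup_left).trans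
    (h.can_solv (solv_zpowers _) (i _ (h2 _ isPRegular_one)) a).2
  refine ⟨_, hψ.lf_mul μ⁻¹, h7, fun J hJ => h.inB0 hJ (irr_of_res ((hψ.lf_mul μ⁻¹).isCharacter.res J) hJ
    (h7 ▸ a.irr)) fun g _ hg => ?_⟩
  rw [InB0, h6 g hg]
  exact (h.can_solv (solv_zpowers _) (i _ (h2 _ hg)) a).1

end H9
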