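import Cfsg.Agent.H9.Pr1
import Cfsg.Agent.H3.Deg

/-! The theorem of Isaacs and Smith. -/

set_option autoImplicit false
set_option linter.style.haveILetI false
set_option linter.unusedSectionVars false
set_option maxSynthPendingDepth 3

namespace H9
open Cfsg H3 MonoidAlgebra Subgroup Module
open scoped ComplexConjugate Pointwise

variable {p : ℕ} {M : Ideal AlgInt} {G H : Type*} [Group G] [Finite G] [Group H] [Finite H] [hp : Fact p.Prime]
  [PMod p M]

include hp in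
theorem B0_comp_equiv (e : H ≃* G) {χ : IrrCharacter G} (h : χ ∈ (B0 M G).1) :
    (⟨fun x => χ.1 (e x), χ.2.comp_equiv e⟩ : IrrCharacter H) ∈ (B0 M H).1 := by
  classical
  haveI := Fintype.ofFinite G
  haveI := Fintype.ofFinite H
  rw [mem_B0_iff (p := p)] at h ⊢
  exact (Finset.sum_equiv e.toEquiv (t := Finset.univ.filter (IsPRegular p)) (g := χ.1) (fun x => by
    simp only [Finset.mem_filter, Finset.mem_univ, true_and]; simp [IsPRegular]) fun _ _ => rfl).trans_ne h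

theorem mem_B0_res_iff {N : Subgroup G} (hN : ∀ g, IsPRegular p g → g ∈ N) {χ : IrrCharacter G}
    {θ : IrrCharacter N} (e : ∀ n : N, χ.1 n = θ.1 n) : χ ∈ (B0 M G).1 ↔ θ ∈ (B0 M N).1 := by
  classical
  haveI := Fintype.ofFinite G
  rw [mem_B0_iff (p := p), mem_B0_iff (p := p), ← Finset.sum_nbij (s := Finset.univ.filter (IsPRegular p))
    (t := Finset.univ.filter (IsPRegular p)) (f := θ.1) (fun n : N => (n : G)) (fun n hn => by
      simpa [isPRegular_coe] using hn) Subtype.val_injective.injOn (fun g hg => ⟨⟨g, hN g (by simpa using hg)⟩, by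
      simpa [← isPRegular_coe] using hg, rfl⟩) fun n _ => (e n).symm]

open Classical in
theorem Bl.dvd_sum_sq (B : Bl M G) (h : p ∣ Nat.card G) : (p : ℤ) ∣ ∑ χ with χ ∈ B.1, (charDegree χ.1 : ℤ) ^ 2 := by
  obtain ⟨x, hx⟩ := exists_prime_orderOf_dvd_card' p h
  have hg : IsGeneralizedCharacter G (∑ χ with χ ∈ B.1, (charDegree χ.1 : ℤ) • χ.1) :=
    Finset.sum_induction _ _ (fun _ _ => .add) isGen_zero fun χ _ => χ.2.isGen.zsmul _
  refine (dvd_sub_comm.1 (hg.dvd_sub_deg hp.out (k := 1) (x := x) (a := 0)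
    (by rw [pow_one, ← hx, pow_orderOf_eq_one]) ?_ ?_)).trans (sub_zero _).dvd
  · rw [Int.cast_zero, ← block_orth' B (g := x) (h := 1) (by
      rw [pp_of_isPElt ⟨1, by rw [hx, pow_one]⟩, pp_of_isPRegular isPRegular_one]
      simpa using H7.ne_one_of_orderOf hx), Finset.sum_apply]
    exact Finset.sum_congr rfl fun χ _ => by simp [irr_deg, mul_comm]
  · simp [Finset.sum_apply, irr_deg, sq]

open Classical in
theorem thompson_cong_B0 : (p : ℤ) ∣ ∑ θ with θ ∈ (B0 M (pResidual p G)).1, (charDegree θ.1 : ℤ) ^ 2 -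
    ∑ χ : IrrCharacter G with χ ∈ (B0 M G).1 ∧ ¬ p ∣ charDegree χ.1 ∧ ¬ p ∣ orderOf (dt χ.1),
      (charDegree χ.1 : ℤ) ^ 2 := by
  haveI := Fintype.ofFinite G
  let P : Sylow p G := default
  have n := H7.le_nrm_of_normal P (pResidual p G)
  letI := irrAct n
  obtain ⟨k, i⟩ := H2.index_pResidual (p := p) (G := G)
  have c : ∀ {n}, ¬ p ∣ n → (pResidual p G).index.Coprime n := fun h =>
    i ▸ (hp.out.coprime_iff_not_dvd.2 h).pow_left k
  have r := fun {χ : IrrCharacter G} {θ : IrrCharacter (pResidual p G)} =>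
    mem_B0_res_iff (M := M) (fun g => mem_pResidual_of_reg) (χ := χ) (θ := θ)
  have s : ∀ (g : P) (θ : IrrCharacter (pResidual p G)), θ ∈ (B0 M _).1 → g • θ ∈ (B0 M _).1 :=
    fun g θ h => B0_comp_equiv _ h
  have := dvd_sum_sub_fixed P.2 (fun θ : IrrCharacter (pResidual p G) =>
    if θ ∈ (B0 M _).1 then (charDegree θ.1 : ℤ) ^ 2 else 0) fun g θ => by
      rw [dg_congr (ψ := θ.1) (by rw [irrAct_val]; simpa using congrFun (am_res θ.1) 1)]
      exact if_congr ⟨fun h => by simpa using s g⁻¹ _ h, s g θ⟩ rfl rfl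
  rw [← Finset.sum_filter, ← Finset.sum_filter, Finset.filter_filter,
    ← Finset.sum_filter_add_sum_filter_not (Finset.univ.filter fun θ : IrrCharacter (pResidual p G) => _ ∧ _)
      (fun θ => p ∣ charDegree θ.1), ← sub_sub, sub_right_comm,
    dvd_sub_left (Finset.dvd_sum fun θ a => (Int.natCast_dvd_natCast.2 (Finset.mem_filter.1 a).2).pow two_ne_zero)] at this
  refine this.trans (congrArg₂ (· - ·) rfl (Eq.symm ?_)).dvd
  refine Finset.sum_bij (fun χ a => ⟨_, res_irr_of_coprime χ.2 (c (Finset.mem_filter.1 a).2.2.1)⟩) (fun χ a => ?_)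
    (fun χ a ψ b e => ?_) (fun θ a => ?_) fun χ a => rfl
  · simp only [Finset.mem_filter, Finset.mem_univ, true_and] at a ⊢
    exact ⟨⟨(irrAct_fix n _).2 (by rw [iA_am, ← inertia_eq_iA, inertia_res χ.2.isClassFunction]; exact le_top),
      (r fun _ => rfl).1 a.1⟩, a.2.1⟩
  · simp only [Finset.mem_filter, Finset.mem_univ, true_and] at a b
    exact Subtype.ext (CanExt.unique (res_irr_of_coprime χ.2 (c a.2.1)) (c a.2.1) ⟨χ.2, rfl, c a.2.2⟩
      ⟨ψ.2, (congrArg Subtype.val e).symm, c b.2.2⟩)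
  · simp only [Finset.mem_filter, Finset.mem_univ, true_and] at a ⊢
    obtain ⟨χ, b, d⟩ := exists_canExt θ.2 (by
      rw [← am_res θ.1, inertia_eq_iA, eq_top_iff, ← H2.pResidual_sup_sylow P]
      exact sup_le (self_le_iA (irr_am θ).isClassFunction) ((irrAct_fix n _).1 a.1.1)) (c a.2)
      (c (not_dvd_orderOf_of_pRes H2.pResidual_pResidual _))
    exact ⟨⟨χ, b.irr⟩, ⟨(r (congrFun b.res)).2 a.1.2, by rw [dg_congr (congrFun b.res 1)]; exact a.2,
      d ▸ not_dvd_orderOf_of_pRes H2.pResidual_pResidual _⟩, Subtype.ext b.res⟩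

theorem lf_mem_B0 {l : G →* ℂˣ} : (⟨_, lf_irr l⟩ : IrrCharacter G) ∈ (B0 M G).1 ↔
    ∀ g, ((cen1 g).index : ℂ) * (1 - l g) ∈ LI M :=
  forall_congr' fun g => by rw [← mem_LI]; simp [centralChar, mul_sub, trivChar]

include hp in
theorem galIrr_mem_B0 (σ : ℂ ≃+* ℂ) {χ : IrrCharacter G} : galIrr σ χ ∈ (B0 M G).1 ↔ χ ∈ (B0 M G).1 := by
  classical
  haveI := Fintype.ofFinite G
  rw [mem_B0_iff (p := p), mem_B0_iff (p := p)]
  simp only [galIrr_apply, ← map_sum, Ne, EmbeddingLike.map_eq_zero_iff]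

theorem gal_dg (σ : ℂ ≃+* ℂ) (χ : IrrCharacter G) : charDegree (galIrr σ χ).1 = charDegree χ.1 :=
  dg_congr (by rw [galIrr_apply, irr_deg, map_natCast])

theorem gal_dt (σ : ℂ ≃+* ℂ) (χ : IrrCharacter G) : orderOf (dt (galIrr σ χ).1) = orderOf (dt χ.1) := by
  rw [orderOf_eq_orderOf_iff]
  intro n
  have := χ.2.isCharacter.dt_gal σ.toRingHom
  simp only [MonoidHom.ext_iff, MonoidHom.pow_apply, MonoidHom.one_apply, ← Units.val_inj, Units.val_pow_eq_pow_val,
    Units.val_one]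
  refine forall_congr' fun g => ?_
  rw [show (dt (galIrr σ χ).1 g : ℂ) = σ (dt χ.1 g) from this g, ← map_pow, EmbeddingLike.map_eq_one_iff]

theorem dvd_sum_sub_gal [Fintype (IrrCharacter G)] {k m : ℕ} (hk : k.Coprime (Nat.card G))
    (hm : ∀ g : G, g ^ k ^ p ^ m = g) (f : IrrCharacter G → ℤ) (hf : ∀ σ χ, f (galIrr σ χ) = f χ)
    [DecidablePred fun χ : IrrCharacter G => ∀ g, χ.1 (g ^ k) = χ.1 g] :
    (p : ℤ) ∣ ∑ χ, f χ - ∑ χ with ∀ g, χ.1 (g ^ k) = χ.1 g, f χ := by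
  classical
  obtain ⟨σ, hσ⟩ := exists_gal_pow hk
  obtain ⟨τ, hτ⟩ : ∃ τ : Equiv.Perm (IrrCharacter G), τ = galIrr σ := ⟨_, rfl⟩
  have e1 : ∀ χ g, (τ χ).1 g = χ.1 (g ^ k) := fun χ g => by rw [hτ, galIrr_apply, hσ _ χ.2.isGen]
  have e : ∀ (j : ℕ) χ g, ((τ ^ j) χ).1 g = χ.1 (g ^ k ^ j) := fun j => by
    induction j with
    | zero => simp
    | succ j ih => intro χ g; rw [pow_succ', Equiv.Perm.mul_apply, e1, ih, ← pow_mul, ← pow_succ']
  have := dvd_sum_sub_fixed (isPElt_iff_pow.2 ⟨m, Equiv.ext fun χ => Subtype.ext (funext fun g => by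
    rw [e, hm]; rfl)⟩ : IsPElt p τ).isPGroup_zpowers f (by
      rintro ⟨_, h⟩ χ
      obtain ⟨j, rfl⟩ := mem_powers_iff_mem_zpowers.2 h
      change f ((τ ^ j) χ) = _
      clear h
      induction j with
      | zero => rfl
      | succ j ih => rw [pow_succ', Equiv.Perm.mul_apply, ← ih, hτ, hf])
  refine this.trans (congrArg₂ (· - ·) rfl (Finset.sum_congr (Finset.filter_congr fun χ _ => ⟨fun h g => ?_, ?_⟩)
    fun _ _ => rfl)).dvd
  · rw [← e1]; exact congrArg (fun ψ : IrrCharacter G => ψ.1 g) (h ⟨τ, mem_zpowers τ⟩)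
  · rintro h ⟨_, j, rfl⟩
    exact Equiv.Perm.zpow_apply_eq_self_of_apply_eq_self (Subtype.ext (funext fun g => by rw [e1, h])) j

theorem isaacs_smith {k m : ℕ} (hk : k.Coprime (Nat.card G)) (hm : ∀ g : G, g ^ k ^ p ^ m = g)
    (h : ∀ χ ∈ (B0 M G).1, ¬ p ∣ charDegree χ.1 → (∀ g, χ.1 (g ^ k) = χ.1 g) → charDegree χ.1 = 1) :
    HasNormalPComplement p G := by
  classical
  obtain ⟨n, i⟩ := H2.index_pResidual (p := p) (G := G)
  refine npc_of_index (N := pResidual p G) (fun d => ?_) i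
  let A : Subgroup (G →* ℂˣ) := ⟨⟨⟨{l | ((⟨_, lf_irr l⟩ : IrrCharacter G) ∈ (B0 M G).1 ∧ ¬ p ∣ orderOf l) ∧
      ∀ g, l (g ^ k) = l g},
    fun {a b} c d => ⟨⟨lf_mem_B0.2 fun g => by
      convert add_mem (lf_mem_B0.1 c.1.1 g) (LI_mul_left (irr_mem_LR ⟨_, lf_irr a⟩ g) (lf_mem_B0.1 d.1.1 g)) using 1
      simp; ring, fun e =>
    (hp.out.dvd_mul.1 (e.trans (Commute.all a b).orderOf_mul_dvd_mul_orderOf)).elim c.1.2 d.1.2⟩,
      fun g => by rw [MonoidHom.mul_apply, c.2, d.2]; rfl⟩⟩,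
    ⟨lf_mem_B0.2 fun g => by simp, by simpa using hp.out.one_lt.ne'⟩, fun _ => rfl⟩,
    fun {a} c => ⟨⟨lf_mem_B0.2 fun g => by
      convert neg_mem (LI_mul_left (irr_mem_LR ⟨_, lf_irr a⁻¹⟩ g) (lf_mem_B0.1 c.1.1 g)) using 1
      simp; field_simp; ring, by simpa using c.1.2⟩, fun g => by rw [MonoidHom.inv_apply, c.2]; rfl⟩⟩
  have := (dvd_sub_right ((B0 M _).dvd_sum_sq d)).1 (thompson_cong_B0 (M := M))
  rw [Finset.sum_filter] at this
  replace this := (dvd_sub_right this).1 (dvd_sum_sub_gal hk hm _ fun σ χ => by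
    rw [gal_dg, gal_dt]; exact if_congr (and_congr_left' (galIrr_mem_B0 σ)) rfl rfl)
  rw [← Finset.sum_filter, Finset.filter_filter,
    ← Finset.sum_bij (s := (Finset.univ : Finset A)) (f := fun _ => (1 : ℤ)) (fun l _ => ⟨_, lf_irr l.1⟩)
      (fun l _ => Finset.mem_filter.2 ⟨Finset.mem_univ _, fun g => congrArg Units.val (l.2.2 g), l.2.1.1,
        by simp [dg_lf, hp.out.one_lt.ne'], by rw [dt_lf]; exact l.2.1.2⟩)
      (fun _ _ _ _ e => Subtype.ext (lf_injective (congrArg Subtype.val e)))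
      (fun χ a => ?_) (by simp [dg_lf]), Finset.sum_const, Finset.card_univ, nsmul_one, Int.natCast_dvd_natCast] at this
  · obtain ⟨x, e⟩ := exists_prime_orderOf_dvd_card p this
    exact x.2.1.2 (by rw [Subgroup.orderOf_coe, e])
  simp only [Finset.mem_filter, Finset.mem_univ, true_and] at a
  obtain ⟨l, e⟩ := χ.2.isCharacter.exists_lf (χ.2.isCharacter.dg_eq_one.1 (h χ a.2.1 a.2.2.1 a.1))
  obtain rfl : χ = ⟨_, lf_irr l⟩ := Subtype.ext e
  exact ⟨⟨l, ⟨a.2.1, by simpa [dt_lf] using a.2.2.2⟩, fun g => Units.ext (a.1 g)⟩, Finset.mem_univ _, rfl⟩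

omit [PMod p M] in
theorem sigma_one {k : ℕ} (h1 : ∀ g : G, IsPElt p g → g ^ k = g ^ (1 + p)) (h2 : ∀ g : G, IsPRegular p g → g ^ k = g) :
    k.Coprime (Nat.card G) ∧ ∃ m, ∀ g : G, g ^ k ^ p ^ m = g := by
  refine ⟨Nat.coprime_of_dvd fun q hq hk hG => ?_, (Nat.card G).factorization p, fun g => ?_⟩
  · haveI := Fact.mk hq
    obtain ⟨x, hx⟩ := exists_prime_orderOf_dvd_card' q hG
    have e : x ^ k = 1 := orderOf_dvd_iff_pow_eq_one.1 (hx ▸ hk)
    refine H7.ne_one_of_orderOf hx ?_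
    by_cases c : p = q
    · rwa [h1 x ⟨1, by rw [hx, c, pow_one]⟩, pow_add, c, ← hx, pow_orderOf_eq_one, mul_one, pow_one] at e
    · rwa [h2 x fun d => c ((Nat.prime_dvd_prime_iff_eq hp.out hq).1 (hx ▸ d))] at e
  · have a : ∀ (j : ℕ) (x : G), IsPElt p x → x ^ k ^ j = x ^ (1 + p) ^ j := fun j => by
      induction j with
      | zero => simp
      | succ j ih => intro x hx; rw [pow_succ, pow_succ, pow_mul, pow_mul, ih x hx, h1 _ (hx.pow _)]
    have b : ∀ (j : ℕ) (x : G), IsPRegular p x → x ^ k ^ j = x := fun j x hx => by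
      induction j with
      | zero => simp
      | succ j ih => rw [pow_succ, pow_mul, ih, h2 x hx]
    conv_lhs => rw [← pp_mul_pq (p := p) g]
    rw [(commute_pp_pq g).mul_pow, a _ _ (isPElt_pp g), b _ _ (isPRegular_pq g)]
    conv_rhs => rw [← pp_mul_pq (p := p) g, ← pow_one (pp p g)]
    congr 1
    obtain ⟨j, hj⟩ := isPElt_pp (p := p) g
    have := dvd_sub_pow_of_dvd_sub (p := p) (a := (1 + p : ℤ)) (b := 1) (by simp) ((Nat.card G).factorization p)
    rw [pow_eq_pow_iff_modEq, hj, Nat.modEq_iff_dvd, dvd_sub_comm]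
    push_cast
    refine (pow_dvd_pow _ (Nat.le_succ_of_le ?_)).trans (by simpa using this)
    exact (hp.out.pow_dvd_iff_le_factorization Nat.card_pos.ne').1 (hj ▸ _root_.orderOf_dvd_natCard _)

theorem height_B0_iff {χ : IrrCharacter G} : blockHeight p (B0 M G).1 χ.1 = 0 ↔ ¬ p ∣ charDegree χ.1 := by
  have : 0 ∈ (fun ψ : IrrCharacter G => (charDegree ψ.1).factorization p) '' (B0 M G).1 :=
    ⟨trivChar G, trivChar_mem_B0, by simp [trivChar, charDegree]⟩
  rw [blockHeight, Nat.sInf_eq_zero.2 (.inl this), Nat.sub_zero, hp.out.dvd_iff_one_le_factorization (charDegree_ne_zero χ.2)]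
  omega

theorem deg_eq_one_of_npc (h : HasNormalPComplement p G) {χ : IrrCharacter G} (hχ : χ ∈ (B0 M G).1)
    (hd : ¬ p ∣ charDegree χ.1) : charDegree χ.1 = 1 := by
  obtain ⟨ψ, hψ, e⟩ := χ.2.exists_descend (QuotientGroup.mk' (pResidual p G)) (QuotientGroup.mk'_surjective _)
    (by rw [QuotientGroup.ker_mk']; exact (mem_B0_iff_of_npc h).1 hχ)
  obtain ⟨k, i⟩ := H2.index_pResidual (p := p) (G := G)
  have := hψ.deg_dvd_card (d := charDegree χ.1) (by rw [← irr_deg, e, map_one])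
  rw [← index_eq_card, i] at this
  exact Nat.eq_one_of_dvd_coprimes ((hp.out.coprime_iff_not_dvd.2 hd).pow_left k) this dvd_rfl

end H9
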