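import Cfsg.Agent.H9.AD

/-! # Power maps acting on characters and principal blocks -/

namespace H9
open Cfsg H3 MonoidAlgebra Subgroup
open scoped ComplexConjugate Pointwise
set_option linter.style.haveILetI false
set_option linter.unusedSectionVars false

variable {p : ℕ} {M : Ideal AlgInt} {G : Type*} [Group G] [Finite G]
variable {N J K L : Subgroup G} {α β θ : G → ℂ} {g x : G} {k : ℕ} {χ ψ : IrrCharacter G}

theorem card_fixed_modEq {ι : Type*} [Finite ι] (q : ℕ) [Fact q.Prime] (f : ι → ι) {e : ℕ} (S : ι → Prop)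
    (hf : ∀ i, S i → f^[q ^ e] i = i) (hS : ∀ i, S i → S (f i)) :
    Nat.card {i // S i} ≡ Nat.card {i // S i ∧ f i = i} [MOD q] := by
  classical
  haveI := Fintype.ofFinite ι
  let F : Function.End {i // S i} := fun i => ⟨f i.1, hS _ i.2⟩
  have h1 : ∀ n i, ((F ^ n) i).1 = f^[n] i.1 := fun n => by
    induction n with
    | zero => exact fun _ => rfl
    | succ n ih => exact fun i => by rw [pow_succ, Function.iterate_succ_apply]; exact ih (F i)
  have := Equiv.Perm.card_fixedPoints_modEq (f := F) (p := q) (n := e) (funext fun i => Subtype.ext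
    ((h1 _ i).trans (hf _ i.2)))
  rw [← Nat.card_eq_fintype_card, ← Nat.card_eq_fintype_card] at this
  rwa [Nat.card_congr (⟨fun i => ⟨⟨i.1, i.2.1⟩, Subtype.ext i.2.2⟩, fun i => ⟨i.1.1, i.1.2,
    congrArg Subtype.val i.2⟩, fun _ => rfl, fun _ => rfl⟩ : {i // S i ∧ f i = i} ≃ F.fixedPoints)]

theorem irr_pow (h : Irr G α) (hk : k.Coprime (Nat.card G)) : Irr G fun g => α (g ^ k) := by
  obtain ⟨σ, hσ⟩ := exists_gal_pow hk
  simp only [← hσ _ h.isGen]
  exact h.gal (σ : ℂ →+* ℂ)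

def irrPow (hk : k.Coprime (Nat.card G)) (χ : IrrCharacter G) : IrrCharacter G :=
  ⟨fun g => χ.1 (g ^ k), irr_pow χ.2 hk⟩

@[simp] theorem irrPow_apply (hk : k.Coprime (Nat.card G)) (χ : IrrCharacter G) (g : G) :
    (irrPow hk χ).1 g = χ.1 (g ^ k) := rfl

theorem irrPow_eq_iff (hk : k.Coprime (Nat.card G)) : irrPow hk χ = χ ↔ ∀ g, χ.1 (g ^ k) = χ.1 g :=
  Subtype.ext_iff.trans funext_iff

theorem irrPow_iterate (hk : k.Coprime (Nat.card G)) (n : ℕ) (χ : IrrCharacter G) (g : G) :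
    ((irrPow hk)^[n] χ).1 g = χ.1 (g ^ k ^ n) := by
  induction n generalizing g with
  | zero => simp
  | succ n ih => rw [Function.iterate_succ_apply', irrPow_apply, ih, ← pow_mul, pow_succ']

theorem irrPow_iterate_eq (hk : k.Coprime (Nat.card G)) {n : ℕ} (h : k ^ n ≡ 1 [MOD Monoid.exponent G])
    (χ : IrrCharacter G) : (irrPow hk)^[n] χ = χ := Subtype.ext (funext fun g => by
  rw [irrPow_iterate, (pow_eq_pow_iff_modEq.2 (h.of_dvd (Monoid.order_dvd_exponent g)) : g ^ k ^ n = g ^ 1), pow_one])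

theorem charDegree_irrPow (hk : k.Coprime (Nat.card G)) (χ : IrrCharacter G) :
    charDegree (irrPow hk χ).1 = charDegree χ.1 := dg_congr (by simp)

theorem inner_pow [Fintype G] (hk : k.Coprime (Nat.card G)) (f f' : G → ℂ) :
    ⟪fun g => f (g ^ k), fun g => f' (g ^ k)⟫ = ⟪f, f'⟫ :=
  congrArg _ (Equiv.sum_comp (powCoprime hk.symm) fun g => f g * conj (f' g))

theorem blk_lf_mul [M.IsMaximal] (h : blk M χ = blk M ψ) (l : G →* ℂˣ) :
    blk M ⟨_, χ.2.lf_mul l⟩ = blk M ⟨_, ψ.2.lf_mul l⟩ := blk_eq_iff.2 fun g => by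
  have := LI_mul_left (char_mem_LR (M := M) (lf_ch l) g) (mem_LI.2 (blk_eq_iff.1 h g))
  refine mem_LI.1 (by convert this using 1; simp [centralChar]; ring)

theorem lf_pow_mul_mem_B0 [M.IsMaximal] {l : G →* ℂˣ} (h : χ ∈ (B0 M G).1)
    (h' : (⟨_, χ.2.lf_mul l⟩ : IrrCharacter G) ∈ (B0 M G).1) (n : ℕ) :
    (⟨_, χ.2.lf_mul (l ^ n)⟩ : IrrCharacter G) ∈ (B0 M G).1 := by
  induction n with
  | zero => convert h using 2; rw [lf_pow, pow_zero, one_mul]
  | succ n ih =>
    have := blk_lf_mul ((mem_iff_blk_eq.1 ih).trans (mem_iff_blk_eq.1 h).symm) l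
    rw [mem_iff_blk_eq.1 h'] at this
    convert mem_iff_blk_eq.2 this using 2
    simp only [lf_pow, pow_succ', mul_assoc]

theorem irrPow_mem_B0 (p : ℕ) [PMod p M] [Fact p.Prime] (hk : k.Coprime (Nat.card G)) (h : χ ∈ (B0 M G).1) : irrPow hk χ ∈ (B0 M G).1 := by
  classical
  haveI := Fintype.ofFinite G
  rw [mem_B0_iff, Finset.sum_filter] at h ⊢
  refine fun e => h ((Fintype.sum_equiv (powCoprime hk.symm) _ _ fun g => ?_).symm.trans e)
  rw [IsPRegular, IsPRegular, powCoprime_apply, (hk.symm.coprime_dvd_left (orderOf_dvd_natCard g)).orderOf_pow]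
  rfl

/-- the `2`-block step over an abelian quotient of odd order. -/
theorem inB0_of_fixed [PMod 2 M] [hN : N.Normal] (ho : Odd N.index) {e : ℕ} (hk : k.Coprime (Nat.card G))
    (hke : k ^ 2 ^ e ≡ 1 [MOD Nat.card G]) (h2 : ∀ g : G, Odd (orderOf g) → g ^ k = g⁻¹)
    (hs : Group.IsSolvable (G ⧸ N)) (l : N ≤ K) (a : Irr K α↾K) (f : ∀ g ∈ K, α (g ^ k) = α g)
    (q : ∀ θ : G → ℂ, Irr N θ↾N → ⟪α↾N, θ↾N⟫ ≠ 0 → InB0 M N θ) : InB0 M K α := by
  classical
  induction K using WellFoundedLT.induction generalizing α with | ind K ih => ?_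
  by_cases h0 : K ≤ N
  · obtain rfl := le_antisymm h0 l
    exact q α a (a.inner_self.trans_ne one_ne_zero)
  obtain ⟨L, hL⟩ : ∃ L, L = N ⊔ ⁅K, K⁆ := ⟨_, rfl⟩
  have c : ⁅K, K⁆ ≤ L := hL ▸ le_sup_right
  have nl : N ≤ L := hL ▸ le_sup_left
  have lk : L ≤ K := hL ▸ sup_le l (commutator_le.2 fun a ha b hb => by
    rw [commutatorElement_def]; exact mul_mem (mul_mem (mul_mem ha hb) (inv_mem ha)) (inv_mem hb))
  have lt : L < K := lk.lt_of_ne fun e => by
    have := H1.commutator_lt_of_isSolvable (H := K.map (QuotientGroup.mk' N)) fun h => h0 (by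
      rwa [Subgroup.map_eq_bot_iff, QuotientGroup.ker_mk'] at h)
    rw [← map_commutator] at this
    refine this.not_ge ?_
    nth_rw 1 [← e, hL]
    rw [Subgroup.map_sup, (Subgroup.map_eq_bot_iff _).2 (QuotientGroup.ker_mk' N).ge, bot_sup_eq]
  have hc := commutator_le_sub c
  haveI := Normal.of_commutator_le _ hc
  have oi : Odd (L.subgroupOf K).index := ho.of_dvd_nat ((relIndex_dvd_of_le_left K nl).trans
    (relIndex_dvd_index_of_normal _ _))
  have kL : k.Coprime (Nat.card L) := hk.coprime_dvd_right (card_subgroup_dvd_card L)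
  have kK : k.Coprime (Nat.card K) := hk.coprime_dvd_right (card_subgroup_dvd_card K)
  have ca := ch_mono a.isCharacter lk
  choose m hm using fun η : IrrCharacter L => ca.inner_nat η.2.isCharacter
  obtain ⟨η, h3, h4⟩ : ∃ η, Odd (m η) ∧ irrPow kL η = η := by
    have h5 := card_fixed_modEq 2 (irrPow kL) (e := e) (fun η => Odd (m η)) (fun η _ => irrPow_iterate_eq _
      (hke.of_dvd (Group.exponent_dvd_nat_card.trans (card_subgroup_dvd_card L))) η) fun η h => by
        have := inner_pow kL α↾L η.1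
        rw [show (fun y : L => α↾L (y ^ k)) = α↾L from funext fun y => f y (lk y.2), hm η] at this
        rwa [Nat.cast_injective (R := ℂ) ((hm (irrPow kL η)).symm.trans this)]
    have h6 := ca.isClassFunction.inner_eq_sum α↾L
    rw [← inner_sub lk, inner_res_eq_card hc a] at h6
    simp only [hm, map_natCast] at h6
    have h7 : Odd (∑ η, m η * m η) := by
      rw [← show Nat.card (triv (L.subgroupOf K) ⊓ lstab α↾K : Subgroup _) = ∑ η, m η * m η by exact_mod_cast h6]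
      exact oi.of_dvd_nat (card_triv _ hc ▸ card_dvd_of_le inf_le_left)
    rw [Finset.odd_sum_iff_odd_card_odd] at h7
    simp only [Nat.odd_mul, and_self] at h7
    rw [Nat.card_eq_fintype_card, Fintype.card_subtype, Nat.ModEq, Nat.odd_iff.1 h7] at h5
    obtain ⟨⟨η, h⟩⟩ := (Nat.card_pos_iff.1 (by omega : 0 < Nat.card {η // Odd (m η) ∧ irrPow kL η = η})).1
    exact ⟨η, h⟩
  obtain ⟨β, hβ⟩ := exists_amb η.1
  have d : ⟪α↾L, β↾L⟫ ≠ 0 := by rw [hβ, hm]; exact Nat.cast_ne_zero.2 h3.pos.ne'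
  have b : Irr L β↾L := hβ ▸ η.2
  obtain ⟨ξ, hξ, e⟩ := (inB0_sub lk).2 (ih L lt nl b (fun g hg => by
    simpa [← hβ] using (irrPow_eq_iff kL).1 h4 ⟨g, hg⟩) fun θ i j => q θ i (over_trans nl ca b i.isCharacter d j))
  obtain ⟨χ, hχ, d'⟩ := Bl.exists_over (B0_cov _) hξ
  obtain ⟨γ, hγ⟩ := exists_amb χ.1
  rw [e, ← hγ, inner_sub lk, Ne, inner_eq_zero_comm] at d'
  obtain ⟨ω, hω, e'⟩ := exists_lf_mulA lk c a (hγ ▸ χ.2) (over_trans le_rfl ca b
    (ch_mono (hγ ▸ χ.2.isCharacter) lk) d d')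
  have h5 : ω ^ (L.subgroupOf K).index = 1 := pow_index_of_triv hω
  have h6 : ∀ y, ω (y ^ k) = (ω y)⁻¹ := fun y => by
    have h7 : ω (pp 2 y) = 1 := eq_one_of_isPElt_of_isPRegular ((isPElt_pp y).map ω) (isPRegular_of_pow_eq_one
      (Nat.not_even_iff_odd.2 oi ∘ even_iff_two_dvd.2) (DFunLike.congr_fun h5 _))
    have h8 : pq 2 y ^ k = (pq 2 y)⁻¹ := Subtype.ext (h2 _ (by
      rw [orderOf_coe, ← Nat.not_even_iff_odd, even_iff_two_dvd]; exact isPRegular_pq y))
    rw [← pp_mul_pq (p := 2) y, map_pow, map_mul, h7, one_mul, ← map_pow, h8, map_inv]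
  obtain ⟨j, hj⟩ := oi
  have h7 := lf_pow_mul_mem_B0 (l := ω ^ (2 * (2 * j))) hχ (by
    convert irrPow_mem_B0 2 kK hχ using 1
    refine Subtype.ext (funext fun y => ?_)
    have : ω y ^ (2 * (2 * j)) * ω y = (ω y)⁻¹ := by
      rw [eq_inv_iff_mul_eq_one, ← pow_succ, ← pow_succ, show 2 * (2 * j) + 1 + 1 = (2 * j + 1) * 2 by ring,
        pow_mul, ← hj, show ω y ^ _ = 1 from DFunLike.congr_fun h5 y, one_pow]
    rw [← e'] at hγ
    simp only [irrPow_apply, ← hγ, Pi.mul_apply, lf_apply, h6, ← this, coe_pow, f y y.2]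
    simp [mul_assoc]) (j + 1)
  refine ⟨_, h7, funext fun y => ?_⟩
  have : (ω y ^ (2 * (2 * j))) ^ (j + 1) * ω y = 1 := by
    rw [← pow_mul, ← pow_succ, show 2 * (2 * j) * (j + 1) + 1 = (2 * j + 1) * (2 * j + 1) by ring,
      pow_mul, ← hj, show ω y ^ _ = 1 from DFunLike.congr_fun h5 y, one_pow]
  rw [← e'] at hγ
  simp only [← hγ, Pi.mul_apply, lf_apply, MonoidHom.pow_apply]
  rw [← mul_assoc, ← Units.val_mul, this]; simp

end H9
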